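import Cfsg.Agent.Lib.Recog.TwE6Fi22.Defs
import Cfsg.Agent.Lib.Recog.TwE6Fi22.Seven.Data

set_option autoImplicit false
set_option maxRecDepth 20000
set_option Elab.async false

/-! Products of the packed matrices for the last eight transpositions (owner: helper22). -/

namespace CfsgLib.Recog.TwE6Fi22.Seven
open CfsgLib.ThreeTrans.CosetIndex (forallFrom)

/-- The element of the algebra. -/
noncomputable def algM : ℕ × ℕ :=
  addP (addP (addP (evalP imgM algWords.1) (evalP imgM algWords.2.1)) (evalP imgM algWords.2.2)) oneP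

theorem words_ok : (algWords.1 ++ algWords.2.1 ++ algWords.2.2).all (fun x => Nat.ble 1 x && Nat.blt x 9) = true := by
  decide +kernel

theorem alg_inv : eqP (mulP algInv algM) (addP oneP rankOne) = true := by decide +kernel

theorem alg_kernel : eqP (colP (mulP algM basisMat) 0) (0, 0) = true := by decide +kernel

theorem rank_one : forallFrom (fun i => forallFrom (fun j =>
    Nat.beq (Nat.land (Nat.shiftRight rankOne.1 (Nat.add (Nat.mul 78 i) j)) 1)
      (cond (Nat.beq j freeIdx) (Nat.land (Nat.shiftRight basisMat.1 (Nat.mul 78 i)) 1) 0) &&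
    Nat.beq (Nat.land (Nat.shiftRight rankOne.2 (Nat.add (Nat.mul 78 i) j)) 1)
      (cond (Nat.beq j freeIdx) (Nat.land (Nat.shiftRight basisMat.2 (Nat.mul 78 i)) 1) 0)) 0 78) 0 78 = true := by
  decide +kernel

theorem basis_inv : eqP (mulP basisInv basisMat) oneP = true := by decide +kernel

theorem basis_tree : forallFrom (fun t => Nat.ble (basisTree.getD t (0, 0)).2 t &&
    ((Nat.ble 1 (basisTree.getD t (0, 0)).1 && Nat.blt (basisTree.getD t (0, 0)).1 9) &&
    eqP (colP basisMat (Nat.add t 1)) (colP (mulP (imgM (basisTree.getD t (0, 0)).1) basisMat) (basisTree.getD t (0, 0)).2)))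
    0 77 = true := by decide +kernel

end CfsgLib.Recog.TwE6Fi22.Seven
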