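import Cfsg.Agent.Lib.Recog.TwE6Fi22.Seven.Irred
import Cfsg.Agent.Lib.Recog.TwE6Fi22.Main
import Cfsg.Agent.Lib.Recog.SporBound.Fi22Eight
import Cfsg.Agent.Lib.Known.AutPOmega.OutOdd
import Cfsg.Agent.Lib.Known.AutPOmega.Transport

set_option autoImplicit false
set_option maxRecDepth 20000
set_option linter.style.haveILetI false

/-!
Three classes of subgroups isomorphic to Ω(7, 3) in the twisted group of type E6 over two elements: the images of the
last eight transpositions of Fi22 under the diagonal translates (owner: helper22).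
-/

namespace CfsgLib.Recog.TwE6Fi22.Seven

open Cfsg
open Cfsg.Lie (chevE6 twistedE6)
open CfsgLib.Lie.Chev
open CfsgLib.ThreeTrans.CosetIndex
open CfsgLib.Recog.SporBound.Fi22Group (L8 nodes card_L8_le)

variable {K : Type*} [Field K] [Fintype K]

/-- The square of an automorphism of the subgroup of eight transpositions is inner. -/
theorem sq_inner (β : MulAut L8) : ∃ h : L8, ∀ x, β (β x) = h * x * h⁻¹ := by
  haveI : Fact (Nat.Prime 3) := ⟨Nat.prime_three⟩
  obtain ⟨e⟩ := SporBound.Fi22Eight.equiv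
  rw [← CfsgLib.Classical.Quad.coe_qOdd] at e
  obtain ⟨e₁⟩ := Known.AutPOmega.out_congr e
  obtain ⟨e₂⟩ := Known.AutPOmega.out_odd (F := ZMod 3) (p := 3) (f := 1) le_rfl (by simp) (by decide)
    (m := 3) le_rfl
  have hc : Nat.card (Cfsg.Out L8) = 2 := by
    rw [Nat.card_congr (e₁.trans e₂).toEquiv]
    simp
  have h2 : (QuotientGroup.mk' (Cfsg.Inn L8) β) ^ 2 = 1 := by
    rw [← hc]
    exact pow_card_eq_one'
  rw [← map_pow] at h2
  obtain ⟨h, hh⟩ := (QuotientGroup.eq_one_iff _).1 h2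
  exact ⟨h, fun x => (DFunLike.congr_fun hh x).symm⟩

theorem gen_mem {x : Spor.Fi22.Gen} (h : 1 ≤ num x) : PresentedGroup.of x ∈ L8 := by
  rw [← SporBound.gen_of (edges := Spor.Fi22.edges) (extra := Spor.Fi22.extra) nodes x]
  refine Subgroup.subset_closure ⟨_, ?_, rfl⟩
  cases x <;> first | decide | exact absurd h (by decide)

theorem central_of_comm {u : Kˣ} (hw : Omega (u : K)) {Z : GL chevE6.Idx K}
    (h : ∀ x ∈ L8, Commute Z (rep hw x)) (g : GL chevE6.Idx K) : Commute Z g := by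
  obtain ⟨c, hc⟩ := scalar_of_comm (X := (Z : Matrix chevE6.Idx chevE6.Idx K)) hw fun j hj1 hj => by
    obtain ⟨x, rfl⟩ := num_surj j hj
    have := congrArg Units.val (h _ (gen_mem hj1)).eq
    rwa [rep_gen, Units.val_mul, Units.val_mul, img_val] at this
  refine Units.ext ?_
  rw [Units.val_mul, Units.val_mul, hc, Matrix.smul_mul, Matrix.mul_smul, one_mul, mul_one]

theorem main (hK : Fintype.card K = 4) :
    ∃ H : Fin 3 → Subgroup (twistedE6 K 2),
      (∀ i, Nonempty ((H i) ≃* Cfsg.Omega (ZMod 3) (Cfsg.quadFormOdd 3 (ZMod 3)))) ∧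
      (∀ i j, i ≠ j → ∀ g : (twistedE6 K 2), (H i).map (MulAut.conj g).toMonoidHom ≠ H j) := by
  obtain ⟨u, hu3, hw⟩ := exists_omega hK
  have hu : u ^ 3 = 1 := by rw [← hu3]; exact pow_orderOf_eq_one u
  obtain ⟨fT, hfT⟩ : ∃ fT : Fin 3 → L8 →* twistedE6 K 2, ∀ i (x : L8),
      ((fT i x : twistedE6 K 2) : GL chevE6.Idx K) = dd u i * rep hw (x : Spor.Fi22) * (dd u i)⁻¹ :=
    ⟨fun i => (((MulAut.conj (dd u i)).toMonoidHom.comp (rep hw)).codRestrict _
      fun x => dd_normalises i (rep_tw hw x)).comp L8.subtype, fun _ _ => rfl⟩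
  have hinj : ∀ i, Function.Injective (fT i) := fun i a b e => by
    refine Subtype.ext (rep_injective hw ?_)
    have := congrArg (fun z : twistedE6 K 2 => (z : GL chevE6.Idx K)) e
    simp only [hfT] at this
    exact mul_left_cancel (mul_right_cancel this)
  obtain ⟨e₀⟩ := SporBound.Fi22Eight.equiv_L8
  obtain ⟨e₁⟩ := SporBound.Fi22Eight.equiv_omega
  refine ⟨fun i => (fT i).range,
    fun i => ⟨(MonoidHom.ofInjective (hinj i)).symm.trans (e₀.symm.trans e₁)⟩, fun i j hij g hg => ?_⟩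
  haveI := card_L8_le.1
  -- the automorphism
  have hback : ∀ x, ∃ x', fT j x' = g * fT i x * g⁻¹ := fun x => by
    have h1 : MulAut.conj g (fT i x) ∈ (fT j).range := (SetLike.ext_iff.1 hg _).1 ⟨fT i x, ⟨x, rfl⟩, rfl⟩
    exact h1
  choose α hα using hback
  obtain ⟨αh, hαh⟩ : ∃ αh : L8 →* L8, ∀ x, αh x = α x :=
    ⟨MonoidHom.mk' α fun a b => hinj j (by rw [map_mul, hα, hα, hα, map_mul]; group), fun _ => rfl⟩
  have hαinj : Function.Injective αh := fun a b e => by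
    rw [hαh, hαh] at e
    have h := congrArg (fT j) e
    rw [hα, hα] at h
    exact hinj i (mul_left_cancel (mul_right_cancel h))
  obtain ⟨β, hβ⟩ : ∃ β : MulAut L8, ∀ x, β x = α x :=
    ⟨MulEquiv.ofBijective αh (Finite.injective_iff_bijective.1 hαinj), fun x => hαh x⟩
  obtain ⟨h, hh⟩ := sq_inner β
  simp only [hβ] at hh
  obtain ⟨y, hy⟩ : ∃ y : GL chevE6.Idx K, y = (dd u j)⁻¹ * (g : GL chevE6.Idx K) * dd u i := ⟨_, rfl⟩
  have hconj : ∀ x : L8, rep hw (α x : Spor.Fi22) = y * rep hw (x : Spor.Fi22) * y⁻¹ := fun x => by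
    have e := congrArg (fun z : twistedE6 K 2 => (z : GL chevE6.Idx K)) (hα x)
    simp only [hfT, Subgroup.coe_mul, InvMemClass.coe_inv] at e
    calc rep hw (α x : Spor.Fi22) = (dd u j)⁻¹ * (dd u j * rep hw (α x : Spor.Fi22) * (dd u j)⁻¹) * dd u j := by
          group
      _ = _ := by rw [e, hy]; group
  obtain ⟨Z, hZ⟩ : ∃ Z : GL chevE6.Idx K, Z = (rep hw (h : Spor.Fi22))⁻¹ * (y * y) := ⟨_, rfl⟩
  have hZc : ∀ k : GL chevE6.Idx K, Commute Z k := by
    refine central_of_comm hw fun x hx => ?_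
    have e : y * y * rep hw x * (y * y)⁻¹ = rep hw (h : Spor.Fi22) * rep hw x * (rep hw (h : Spor.Fi22))⁻¹ := by
      calc y * y * rep hw x * (y * y)⁻¹ = y * (y * rep hw ((⟨x, hx⟩ : L8) : Spor.Fi22) * y⁻¹) * y⁻¹ := by group
        _ = rep hw ((α (α ⟨x, hx⟩) : L8) : Spor.Fi22) := by rw [← hconj, ← hconj]
        _ = _ := by rw [hh, Subgroup.coe_mul, Subgroup.coe_mul, InvMemClass.coe_inv, map_mul, map_mul, map_inv]
    show Z * rep hw x = rep hw x * Z
    calc Z * rep hw x = (rep hw (h : Spor.Fi22))⁻¹ * (y * y * rep hw x * (y * y)⁻¹) * (y * y) := by rw [hZ]; group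
      _ = (rep hw (h : Spor.Fi22))⁻¹ * (rep hw (h : Spor.Fi22) * rep hw x * (rep hw (h : Spor.Fi22))⁻¹) * (y * y) := by
          rw [e]
      _ = _ := by rw [hZ]; group
  obtain ⟨n, hn⟩ : ∃ n : ℕ, n = (i : ℕ) + 2 * (j : ℕ) := ⟨_, rfl⟩
  have hdj : (dd u j)⁻¹ = dd u (2 * (j : ℕ)) :=
    inv_eq_of_mul_eq_one_right (by rw [dd_mul]; exact dd_three hu ⟨j, by ring⟩)
  have hz : dd u j * y * (dd u j)⁻¹ = (g : GL chevE6.Idx K) * dd u n := by
    rw [hy, hn, ← dd_mul, ← hdj]; group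
  have hmem : ∀ (a : ℕ) (z : GL chevE6.Idx K), z ∈ twistedE6 K 2 → dd u a * z * (dd u a)⁻¹ ∈ chevE6.group K :=
    fun a z hz => TwGroups.twE6_le (dd_normalises a hz)
  obtain ⟨g0, hg0⟩ : ∃ g0 : ↥(chevE6.group K), (g0 : GL chevE6.Idx K) * Z = dd u (2 * n) := by
    refine ⟨⟨((g : GL chevE6.Idx K) * (dd u n * g * (dd u n)⁻¹))⁻¹ *
        (dd u j * rep hw (h : Spor.Fi22) * (dd u j)⁻¹),
      mul_mem (inv_mem (mul_mem (TwGroups.twE6_le g.2) (hmem _ _ g.2))) (hmem _ _ (rep_tw hw _))⟩, ?_⟩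
    show ((g : GL chevE6.Idx K) * (dd u n * g * (dd u n)⁻¹))⁻¹ *
        (dd u j * rep hw (h : Spor.Fi22) * (dd u j)⁻¹) * Z = _
    have e : dd u j * rep hw (h : Spor.Fi22) * (dd u j)⁻¹ * Z =
        (dd u j * y * (dd u j)⁻¹) * (dd u j * y * (dd u j)⁻¹) := by
      rw [mul_assoc, ← (hZc (dd u j)⁻¹).eq, hZ]; group
    rw [mul_assoc, e, hz, two_mul, ← dd_mul]
    group
  have h3 : 3 ∣ 2 * n := three_dvd_of_inner hu3 hK g0 fun x => by
    refine Subtype.ext ?_
    rw [dAut_val, ← hg0, Subgroup.coe_mul, Subgroup.coe_mul, InvMemClass.coe_inv]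
    rw [mul_inv_rev, mul_assoc (g0 : GL chevE6.Idx K) Z, (hZc (x : GL chevE6.Idx K)).eq]
    group
  have hi := i.2
  have hj := j.2
  exact hij (Fin.ext (by omega))

end CfsgLib.Recog.TwE6Fi22.Seven
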